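import Groth.Agent.AssDimLoci.Normal

/-!
# Geometric normality at a point through the smooth locus, invariance under extension of the field
-/

set_option autoImplicit false
set_option linter.style.haveILetI false
set_option linter.unusedSectionVars false
set_option linter.deprecated false
set_option backward.isDefEq.respectTransparency false
set_option backward.isDefEq.respectTransparency.types false

universe u

open AlgebraicGeometry CategoryTheory CategoryTheory.Limits IsLocalRing

noncomputable section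

namespace Groth.Agent.GeomNormCons

open AssDimLoci

variable {W Z : Scheme.{u}}

/-- Lifting a generization along a flat map without increasing the dimension. -/
theorem exists_lift_generization (π : W ⟶ Z) [Flat π] [IsLocallyNoetherian W] [IsLocallyNoetherian Z] (a : W) {t : Z} (ht : t ⤳ π a) :
    ∃ t', t' ⤳ a ∧ π t' = t ∧
      ringKrullDim (W.presheaf.stalk t') = ringKrullDim (Z.presheaf.stalk t) := by
  obtain ⟨U, hU, hxU, -⟩ := exists_isAffineOpen_mem_and_subset (x := π a) (U := ⊤) trivial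
  obtain ⟨V, hV, haV, hVU⟩ := exists_isAffineOpen_mem_and_subset (x := a) (U := π ⁻¹ᵁ U) hxU
  have htU : t ∈ U := ht.mem_open U.2 hxU
  letI : Algebra Γ(Z, U) Γ(W, V) := (π.appLE U V hVU).hom.toAlgebra
  haveI : Module.Flat Γ(Z, U) Γ(W, V) :=
    RingHom.flat_algebraMap_iff.1 (show (π.appLE U V hVU).hom.Flat from π.flat_appLE hU hV hVU)
  haveI : IsNoetherianRing Γ(Z, U) := IsLocallyNoetherian.component_noetherian (X := Z) ⟨U, hU⟩
  haveI : IsNoetherianRing Γ(W, V) := IsLocallyNoetherian.component_noetherian (X := W) ⟨V, hV⟩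
  have hc : ∀ (b : W) (hb : b ∈ V), PrimeSpectrum.comap (algebraMap Γ(Z, U) Γ(W, V)) (hV.primeIdealOf ⟨b, hb⟩) =
      hU.primeIdealOf ⟨π b, hVU hb⟩ := fun b hb => by
    refine hU.fromSpec.isOpenEmbedding.injective ?_
    rw [hU.fromSpec_primeIdealOf]
    show (Spec.map (π.appLE U V hVU) ≫ hU.fromSpec) _ = _
    rw [hU.SpecMap_appLE_fromSpec π hV hVU, Scheme.Hom.comp_apply, hV.fromSpec_primeIdealOf]
  let q := (hU.primeIdealOf ⟨t, htU⟩).asIdeal
  let P := (hV.primeIdealOf ⟨a, haV⟩).asIdeal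
  have hP : P.comap (algebraMap Γ(Z, U) Γ(W, V)) = (hU.primeIdealOf ⟨π a, hVU haV⟩).asIdeal :=
    congrArg PrimeSpectrum.asIdeal (hc a haV)
  haveI : P.LiesOver (P.comap (algebraMap Γ(Z, U) Γ(W, V))) := ⟨rfl⟩
  obtain ⟨Q₀, hQ₀P, hQ₀, hQ₀l⟩ := Ideal.exists_ideal_le_liesOver_of_le (p := q)
    (q := P.comap (algebraMap Γ(Z, U) Γ(W, V))) P (by
      rw [hP]
      exact (AssLib.primeIdealOf_le_iff hU (hVU haV) htU).2 ht)
  haveI := hQ₀
  have hle₀ : q.map (algebraMap Γ(Z, U) Γ(W, V)) ≤ Q₀ := Ideal.map_le_iff_le_comap.2 hQ₀l.over.le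
  obtain ⟨Q, hQmin, hQQ₀⟩ := Ideal.exists_minimalPrimes_le hle₀
  haveI hQ : Q.IsPrime := hQmin.1.1
  have hQl : Q.comap (algebraMap Γ(Z, U) Γ(W, V)) = q :=
    le_antisymm ((Ideal.comap_mono hQQ₀).trans hQ₀l.over.ge) (Ideal.map_le_iff_le_comap.1 hQmin.1.2)
  haveI : Q.LiesOver q := ⟨hQl.symm⟩
  have hh : Q.height = q.height := by
    rw [Ideal.height_eq_height_add_of_liesOver_of_hasGoingDown q Q]
    have hz : (Q.map (Ideal.Quotient.mk (q.map (algebraMap Γ(Z, U) Γ(W, V))))).height = 0 := by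
      haveI : (Q.map (Ideal.Quotient.mk (q.map (algebraMap Γ(Z, U) Γ(W, V))))).IsPrime :=
        Ideal.map_isPrime_of_surjective Ideal.Quotient.mk_surjective (by rw [Ideal.mk_ker]; exact hQmin.1.2)
      rw [Ideal.height_eq_zero_iff]
      refine ⟨⟨inferInstance, bot_le⟩, fun R hR hRle => ?_⟩
      haveI := hR.1
      have h1 : R.comap (Ideal.Quotient.mk _) ≤ Q := by
        refine (Ideal.comap_mono hRle).trans ?_
        rw [Ideal.comap_map_of_surjective _ Ideal.Quotient.mk_surjective, ← RingHom.ker_eq_comap_bot, Ideal.mk_ker]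
        exact sup_le le_rfl hQmin.1.2
      have h2 : Q ≤ R.comap (Ideal.Quotient.mk _) :=
        hQmin.2 ⟨inferInstance, le_of_eq_of_le Ideal.mk_ker.symm (Ideal.comap_mono bot_le)⟩ h1
      exact (Ideal.map_mono h2).trans Ideal.map_comap_le
    rw [hz, add_zero]
  obtain ⟨t', ht'V, ht'⟩ := QCoh.exists_point hV ⟨Q, hQ⟩
  have hπ : π t' = t := by
    have h := hc t' ht'V
    rw [ht'] at h
    have h2 := congrArg hU.fromSpec (h.symm.trans (PrimeSpectrum.ext hQl))
    rwa [hU.fromSpec_primeIdealOf, hU.fromSpec_primeIdealOf] at h2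
  refine ⟨t', (AssLib.primeIdealOf_le_iff hV haV ht'V).1 (by rw [ht']; exact hQQ₀.trans hQ₀P), hπ, ?_⟩
  letI := QCoh.stalkAlg (X := W) ht'V
  letI := QCoh.stalkAlg (X := Z) htU
  haveI := QCoh.isLocalization_stalk' hV ht'V
  haveI := QCoh.isLocalization_stalk' hU htU
  rw [IsLocalization.AtPrime.ringKrullDim_eq_height (hV.primeIdealOf ⟨t', ht'V⟩).asIdeal (W.presheaf.stalk t'),
    IsLocalization.AtPrime.ringKrullDim_eq_height q (Z.presheaf.stalk t), ht', hh]

/-- The dimension of the local rings grows along flat maps. -/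
theorem dim_stalk_le (π : W ⟶ Z) [Flat π] [IsLocallyNoetherian W] [IsLocallyNoetherian Z] (a : W) :
    ringKrullDim (Z.presheaf.stalk (π a)) ≤ ringKrullDim (W.presheaf.stalk a) := by
  obtain ⟨t', ht', -, hd⟩ := exists_lift_generization π a specializes_rfl
  rw [← hd]
  obtain ⟨P, hP, ⟨e⟩⟩ := exists_prime_of_specializes ht'
  rw [← ringKrullDim_eq_of_ringEquiv e, IsLocalization.AtPrime.ringKrullDim_eq_height P]
  exact Ideal.height_le_ringKrullDim_of_ne_top hP.ne_top

section Field

variable {k L : Type u} [Field k] [Field L] {q : Z ⟶ Spec (CommRingCat.of k)} {q' : W ⟶ Spec (CommRingCat.of L)}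

/-- Geometric `(R_n)` through the smooth locus. -/
def RkC (q : Z ⟶ Spec (CommRingCat.of k)) [LocallyOfFinitePresentation q] (n : ℕ) (w : Z) : Prop :=
  ∀ t, t ⤳ w → ringKrullDim (Z.presheaf.stalk t) ≤ n → t ∈ q.smoothLocus

/-- Invariance under extension of the field. -/
theorem rkC_iff [LocallyOfFinitePresentation q] [LocallyOfFinitePresentation q'] {π : W ⟶ Z}
    {γ : Spec (CommRingCat.of L) ⟶ Spec (CommRingCat.of k)} (h : IsPullback π q' q γ) [Flat γ] (n : ℕ) (a : W) :
    RkC q' n a ↔ RkC q n (π a) := by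
  haveI : Flat π := MorphismProperty.of_isPullback (P := @Flat) h.flip ‹_›
  haveI : IsLocallyNoetherian W := LocallyOfFiniteType.isLocallyNoetherian q'
  haveI : IsLocallyNoetherian Z := LocallyOfFiniteType.isLocallyNoetherian q
  have hs : ∀ b : W, b ∈ q'.smoothLocus ↔ π b ∈ q.smoothLocus := fun b => by
    rw [Groth.Agent.S2155.result _ _ _ _ h (Or.inr inferInstance)]
    rfl
  constructor
  · intro hc t ht hd
    obtain ⟨t', ht', rfl, he⟩ := exists_lift_generization π a ht
    exact (hs t').1 (hc t' ht' (he ▸ hd))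
  · intro hc t ht hd
    exact (hs t).2 (hc _ (ht.map π.continuous) ((dim_stalk_le π t).trans hd))

variable (q) [LocallyOfFiniteType q]

/-- Normality of all extensions from the criterion. -/
theorem normal_bc_of_crit [LocallyOfFinitePresentation q] {w : Z} (h1 : RkC q 1 w)
    (h2 : LocCoh.HasSk 2 (Z.presheaf.stalk w) (Z.presheaf.stalk w)) (K : Type u) [Field K] [Algebra k K]
    (x' : ↥(FBase.bc q K)) (hx' : (FBase.bcπ q K).base x' = w) :
    IsDomain ((FBase.bc q K).presheaf.stalk x') ∧ IsIntegrallyClosed ((FBase.bc q K).presheaf.stalk x') := by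
  haveI : LocallyOfFiniteType (FBase.bcStr q K) := MorphismProperty.pullback_snd _ _ inferInstance
  haveI : LocallyOfFinitePresentation (FBase.bcStr q K) := FibreLoc5.lfp_of_noetherian' _
  haveI : IsLocallyNoetherian (FBase.bc q K) := LocallyOfFiniteType.isLocallyNoetherian (FBase.bcStr q K)
  haveI : Flat (Spec.map (CommRingCat.ofHom (algebraMap k K))) :=
    Flat.SpecMap_iff.2 (RingHom.flat_algebraMap_iff.2 inferInstance)
  refine (normal_local_iff _).2 ⟨(hasRk_stalk_iff x' 1).2 fun t ht hd => ?_, (hasSk_bc_iff q K 2 x').2 (hx' ▸ h2)⟩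
  exact SmoothReg.isRegularLocalRing_stalk_of_mem_smoothLocus (FBase.bcStr q K)
    ((rkC_iff (IsPullback.of_hasPullback q _) 1 x').2 (hx' ▸ h1) t ht hd)

/-- Geometric normality through finite extensions is the criterion. -/
theorem crit_of_normal [LocallyOfFinitePresentation q] {w : Z}
    (h : ∀ (K : Type u) [Field K] [Algebra k K], Module.Finite k K →
        ∀ x' : ↥(FBase.bc q K), (FBase.bcπ q K).base x' = w →
          IsDomain ((FBase.bc q K).presheaf.stalk x') ∧ IsIntegrallyClosed ((FBase.bc q K).presheaf.stalk x')) :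
    RkC q 1 w ∧ LocCoh.HasSk 2 (Z.presheaf.stalk w) (Z.presheaf.stalk w) :=
  have h' := (geomNormal_iff q w).1 h
  ⟨(geomRk_iff q 1 w).1 h'.1, h'.2.2⟩

end Field

end Groth.Agent.GeomNormCons
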