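import Groth.Agent.GeomNormCons.Crit

/-!
# The geometric normality loci of the fibres are constructible
-/

set_option autoImplicit false
set_option linter.style.haveILetI false
set_option linter.unusedSectionVars false
set_option linter.deprecated false
set_option backward.isDefEq.respectTransparency false
set_option backward.isDefEq.respectTransparency.types false

universe u

open AlgebraicGeometry CategoryTheory CategoryTheory.Limits IsLocalRing Topology

noncomputable section

namespace Groth.Agent.GeomNormCons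

open AssDimLoci

theorem gnormal_source {X Y U : Scheme.{u}} (f : X ⟶ Y) (j : U ⟶ X) [IsOpenImmersion j] (u : U) :
    GNormal (j ≫ f) ((j ≫ f) u) ((j ≫ f).asFiber u) ↔ GNormal f (f (j u)) (f.asFiber (j u)) := by
  have key : ∀ (s : Y) (w : ↥((j ≫ f).fiber s)), GNormal (j ≫ f) s w ↔ GNormal f s (MoreMor.fiberMap j f s w) := by
    intro s w
    let φ := MoreMor.fiberMap j f s
    haveI : IsOpenImmersion φ :=
      MorphismProperty.of_isPullback (P := @IsOpenImmersion) (ConsPropLib.isPullback_fiberMap j f s) ‹_›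
    have hφ : φ ≫ f.fiberToSpecResidueField s = (j ≫ f).fiberToSpecResidueField s :=
      ConsPropLib.fiberMap_comp_toSpec j f s
    refine forall_congr' fun K => forall_congr' fun _ => forall_congr' fun _ => forall_congr' fun _ => ?_
    let q := f.fiberToSpecResidueField s
    let q' := (j ≫ f).fiberToSpecResidueField s
    let g := Spec.map (CommRingCat.ofHom (algebraMap (IsLocalRing.ResidueField (Y.presheaf.stalk s)) K))
    let ψ : FBase.bc q' K ⟶ FBase.bc q K :=
      pullback.map q' g q g φ (𝟙 _) (𝟙 _) (by rw [hφ]; exact Category.comp_id _) (by simp)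
    have hψ : ψ ≫ FBase.bcπ q K = FBase.bcπ q' K ≫ φ := pullback.lift_fst _ _ _
    have hψ2 : ψ ≫ FBase.bcStr q K = FBase.bcStr q' K := (pullback.lift_snd _ _ _).trans (Category.comp_id _)
    have sq : IsPullback ψ (FBase.bcπ q' K) (FBase.bcπ q K) φ := by
      refine IsPullback.of_right ?_ hψ (IsPullback.of_hasPullback q g).flip
      have h2 : ψ ≫ pullback.snd q g = pullback.snd q' g := hψ2
      rw [h2, hφ]
      exact (IsPullback.of_hasPullback q' g).flip
    haveI : IsOpenImmersion ψ := MorphismProperty.of_isPullback (P := @IsOpenImmersion) sq.flip ‹_›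
    have hst : ∀ a, (IsDomain ((FBase.bc q K).presheaf.stalk (ψ a)) ∧ IsIntegrallyClosed ((FBase.bc q K).presheaf.stalk (ψ a))) ↔
        (IsDomain ((FBase.bc q' K).presheaf.stalk a) ∧ IsIntegrallyClosed ((FBase.bc q' K).presheaf.stalk a)) := by
      intro a
      let e := (asIso (ψ.stalkMap a)).commRingCatIsoToRingEquiv
      constructor
      · rintro ⟨h1, h2⟩
        exact ⟨e.symm.toMulEquiv.isDomain, IsIntegrallyClosed.of_equiv e⟩
      · rintro ⟨h1, h2⟩
        exact ⟨e.toMulEquiv.isDomain, IsIntegrallyClosed.of_equiv e.symm⟩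
    constructor
    · intro h x' hx'
      obtain ⟨a, ha1, ha2⟩ := Scheme.Pullback.exists_preimage_pullback x' w hx'
      have e1 : ψ (sq.isoPullback.inv a) = x' := by
        rw [← Scheme.Hom.comp_apply, IsPullback.isoPullback_inv_fst]; exact ha1
      have e2 : (FBase.bcπ q' K) (sq.isoPullback.inv a) = w := by
        rw [← Scheme.Hom.comp_apply, IsPullback.isoPullback_inv_snd]; exact ha2
      exact e1 ▸ (hst _).2 (h _ e2)
    · intro h x' hx'
      refine (hst x').1 (h (ψ x') ?_)
      rw [← Scheme.Hom.comp_apply, hψ, Scheme.Hom.comp_apply, hx']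
  have hpt : ∀ (s : Y) (w : ↥(f.fiber s)), f.fiberι s w = j u → (GNormal f s w ↔ GNormal f (f (j u)) (f.asFiber (j u))) := by
    intro s w hw
    obtain rfl : f (j u) = s := hw ▸ apply_fiberι f s w
    rw [(f.fiberι (f (j u))).isEmbedding.injective (hw.trans (f.fiberι_asFiber (j u)).symm)]
  refine (key _ _).trans (hpt _ _ ?_)
  rw [← Scheme.Hom.comp_apply, ConsPropLib.fiberMap_comp_ι, Scheme.Hom.comp_apply, Scheme.Hom.fiberι_asFiber]

/-- Geometric normality of the fibre at a point. -/
abbrev GN ⦃X Y : Scheme.{u}⦄ (f : X ⟶ Y) (x : X) : Prop := GNormal f (f x) (f.asFiber x)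

/-- The criterion at a point of a fibre. -/
def Crit {X : Scheme.{u}} {k : Type u} [Field k] (q : X ⟶ Spec (CommRingCat.of k)) [LocallyOfFinitePresentation q]
    (w : X) : Prop :=
  RkC q 1 w ∧ LocCoh.HasSk 2 (X.presheaf.stalk w) (X.presheaf.stalk w)

theorem gn_iff_all {X Y : Scheme.{u}} (f : X ⟶ Y) [LocallyOfFiniteType f] (y : Y) (w : ↥(f.fiber y)) :
    GNormal f y w ↔
      ∀ (K : Type u) [Field K] [Algebra (IsLocalRing.ResidueField (Y.presheaf.stalk y)) K]
        (x' : ↥(FBase.bc (f.fiberToSpecResidueField y) K)),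
        (FBase.bcπ (f.fiberToSpecResidueField y) K).base x' = w →
          IsDomain ((FBase.bc (f.fiberToSpecResidueField y) K).presheaf.stalk x') ∧
            IsIntegrallyClosed ((FBase.bc (f.fiberToSpecResidueField y) K).presheaf.stalk x') := by
  haveI := FibreLoc5.lfp_fibre f y
  refine ⟨fun h => ?_, fun h K _ _ _ => h K⟩
  have hc := crit_of_normal (k := (IsLocalRing.ResidueField (Y.presheaf.stalk y) : Type u)) (f.fiberToSpecResidueField y) h
  intro K _ _
  exact normal_bc_of_crit (k := (IsLocalRing.ResidueField (Y.presheaf.stalk y) : Type u)) (f.fiberToSpecResidueField y) hc.1 hc.2 K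

theorem gn_iff_crit {X Y : Scheme.{u}} (f : X ⟶ Y) [LocallyOfFiniteType f] (y : Y) (w : ↥(f.fiber y))
    [LocallyOfFinitePresentation (f.fiberToSpecResidueField y)] :
    GNormal f y w ↔ Crit (k := (IsLocalRing.ResidueField (Y.presheaf.stalk y) : Type u)) (f.fiberToSpecResidueField y) w := by
  refine ⟨fun h => crit_of_normal (k := (IsLocalRing.ResidueField (Y.presheaf.stalk y) : Type u)) _ h, fun hc K _ _ _ => ?_⟩
  exact normal_bc_of_crit (k := (IsLocalRing.ResidueField (Y.presheaf.stalk y) : Type u)) (f.fiberToSpecResidueField y) hc.1 hc.2 K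

theorem gn_baseChange {X Y X' Y' : Scheme.{u}} {f : X ⟶ Y} {p : X' ⟶ X} {q : X' ⟶ Y'} {g : Y' ⟶ Y}
    (hsq : IsPullback p q f g) [LocallyOfFiniteType f] (z : X') : GN q z ↔ GN f (p z) := by
  haveI : LocallyOfFiniteType q := MorphismProperty.of_isPullback (P := @LocallyOfFiniteType) hsq ‹_›
  have hs : g (q z) = f (p z) := by rw [← Scheme.Hom.comp_apply, ← hsq.w, Scheme.Hom.comp_apply]
  obtain ⟨e, he, hei⟩ := ConsPropLib.exists_fibre_pullback hsq (q z)
  haveI : Flat (Spec.map (g.residueFieldMap (q z))) := by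
    rw [Flat.SpecMap_iff]
    letI := (g.residueFieldMap (q z)).hom.toAlgebra
    show Module.Flat (Y.residueField (g (q z))) (Y'.residueField (q z))
    infer_instance
  haveI := FibreLoc5.lfp_fibre q (q z)
  have key : ∀ (s : Y) (hs : f (p z) = s) (e : q.fiber (q z) ⟶ f.fiber s)
      (γ : Spec (Y'.residueField (q z)) ⟶ Spec (Y.residueField s)) [Flat γ],
      IsPullback e (q.fiberToSpecResidueField (q z)) (f.fiberToSpecResidueField s) γ →
      e ≫ f.fiberι s = q.fiberι (q z) ≫ p →
      (GN q z ↔ GN f (p z)) := by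
    rintro s rfl e γ _ he hei
    haveI := FibreLoc5.lfp_fibre f (f (p z))
    have hz : e (q.asFiber z) = f.asFiber (p z) := (f.fiberι (f (p z))).isEmbedding.injective (by
      rw [← Scheme.Hom.comp_apply, hei, Scheme.Hom.comp_apply, Scheme.Hom.fiberι_asFiber, Scheme.Hom.fiberι_asFiber])
    show GNormal q _ _ ↔ GNormal f _ _
    rw [gn_iff_crit, gn_iff_crit]
    refine and_congr ?_ ?_
    · rw [← hz]
      exact rkC_iff (k := (IsLocalRing.ResidueField (Y.presheaf.stalk (f (p z))) : Type u))
        (L := (IsLocalRing.ResidueField (Y'.presheaf.stalk (q z)) : Type u)) he 1 (q.asFiber z)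
    · exact (Codepth5.fibP_skR 2 q z).symm.trans
        (((Codepth5.good_skR 2).baseChange f p q g hsq ‹_› z).trans (Codepth5.fibP_skR 2 f (p z)))
  exact key (g (q z)) hs.symm e _ he hei

theorem good_GN : FibreLoc5.Good.{u} GN where
  baseChange X Y X' Y' f p q g hsq _ z := gn_baseChange hsq z
  source U X Y j f _ u := gnormal_source f j u
  isOpen X Y f _ := isOpen_flat_gnormal f

theorem isLocallyConstructible_gn {X S : Scheme.{u}} (f : X ⟶ S) [LocallyOfFinitePresentation f] :
    IsLocallyConstructible {x : X | GN f x} :=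
  FibreLoc5.isLocallyConstructible good_GN f

theorem isLocallyConstructible_forall_gn {X S : Scheme.{u}} (f : X ⟶ S) [LocallyOfFinitePresentation f]
    [QuasiCompact f] [QuasiSeparated f] :
    IsLocallyConstructible {s : S | ∀ w : ↥(f.fiber s), GNormal f s w} := by
  convert FibreLoc5.isLocallyConstructible_forall_fibre good_GN f using 1
  ext s
  constructor
  · rintro h x rfl
    exact h _
  · intro h w
    have hw : f (f.fiberι s w) = s := apply_fiberι f s w
    have key : ∀ (s : S) (w : ↥(f.fiber s)) (x : X), f.fiberι s w = x → f x = s → GN f x → GNormal f s w := by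
      rintro s w x hwx rfl hx
      rwa [(f.fiberι (f x)).isEmbedding.injective (hwx.trans (f.fiberι_asFiber x).symm)]
    exact key s w _ rfl hw (h _ hw)

end Groth.Agent.GeomNormCons
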